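import Groth.Agent.Lib.Ample.GenLocus
import Groth.Agent.Lib.ZarCoh.FlatBC.Main
import Mathlib.RingTheory.Localization.BaseChange
import Mathlib.RingTheory.Flat.TorsionFree
import Mathlib.AlgebraicGeometry.Morphisms.Flat
import Mathlib.AlgebraicGeometry.Morphisms.UnderlyingMap

/-!
# Extending a trivialization from the generic fibre
-/

set_option autoImplicit false
set_option linter.style.haveILetI false

universe u

open CategoryTheory CategoryTheory.Limits AlgebraicGeometry TopologicalSpace Opposite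
open Groth.Agent.Lib
open ZarCoh.FlatBC.Main (baseMap)
open Groth.Agent.Lib.TensorMod.Gen (IsGen one)
open Groth.Agent.Lib.TensorMod.Dual (rs)

namespace Groth.Agent.H73.ValTriv.Generic

variable {A K : Type u} [CommRing A] [IsDomain A] [Field K] [Algebra A K] [IsFractionRing A K]
  {X XK : Scheme.{u}} {f : X ⟶ Spec (CommRingCat.of A)} {p : XK ⟶ Spec (CommRingCat.of K)}
  {j : XK ⟶ X} (h : IsPullback j p f (Spec.map (CommRingCat.ofHom (algebraMap A K))))

theorem flat_baseMap [Flat f] {U : X.Opens} (hU : IsAffineOpen U) : (baseMap f U).Flat := by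
  have h1 := Flat.flat_appLE f (isAffineOpen_top (Spec (CommRingCat.of A))) hU
    (show U ≤ f ⁻¹ᵁ ⊤ from le_top)
  have h2 := (RingHom.Flat.of_bijective
    (ConcreteCategory.bijective_of_isIso (Scheme.ΓSpecIso (CommRingCat.of A)).inv)).comp h1
  exact h2

theorem regular_baseMap [Flat f] {U : X.Opens} (hU : IsAffineOpen U) {c : A} (hc : c ≠ 0)
    {r : Γ(X, U)} (hr : baseMap f U c * r = 0) : r = 0 := by
  letI : Algebra A Γ(X, U) := (baseMap f U).toAlgebra
  haveI : Module.Flat A Γ(X, U) := flat_baseMap hU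
  exact (Module.Flat.torsion_eq_bot (R := A) (M := Γ(X, U))).le
    ⟨⟨c, mem_nonZeroDivisors_of_ne_zero hc⟩, hr⟩

include h in
theorem isLocalization_app {U : X.Opens} (hU : IsAffineOpen U) :
    letI : Algebra A Γ(X, U) := (baseMap f U).toAlgebra
    letI : Algebra Γ(X, U) Γ(XK, j ⁻¹ᵁ U) := (j.app U).hom.toAlgebra
    IsLocalization (Algebra.algebraMapSubmonoid Γ(X, U) (nonZeroDivisors A))
      Γ(XK, j ⁻¹ᵁ U) := by
  letI : Algebra A Γ(X, U) := (baseMap f U).toAlgebra
  letI : Algebra Γ(X, U) Γ(XK, j ⁻¹ᵁ U) := (j.app U).hom.toAlgebra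
  letI : Algebra K Γ(XK, j ⁻¹ᵁ U) := (baseMap p (j ⁻¹ᵁ U)).toAlgebra
  letI : Algebra A Γ(XK, j ⁻¹ᵁ U) :=
    ((algebraMap K Γ(XK, j ⁻¹ᵁ U)).comp (algebraMap A K)).toAlgebra
  haveI : IsScalarTower A K Γ(XK, j ⁻¹ᵁ U) := IsScalarTower.of_algebraMap_eq fun _ => rfl
  have po := ZarCoh.FlatBC.Main.isPushout_sections h hU
  haveI : IsScalarTower A Γ(X, U) Γ(XK, j ⁻¹ᵁ U) :=
    IsScalarTower.of_algebraMap_eq fun a => congr($po.w a)
  exact (Algebra.isLocalization_iff_isPushout (nonZeroDivisors A) K).mpr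
    (CommRingCat.isPushout_iff_isPushout.mp po.flip)

include h in
theorem app_injective [Flat f] {U : X.Opens} (hU : IsAffineOpen U) :
    Function.Injective (j.app U) := by
  letI : Algebra A Γ(X, U) := (baseMap f U).toAlgebra
  letI : Algebra Γ(X, U) Γ(XK, j ⁻¹ᵁ U) := (j.app U).hom.toAlgebra
  haveI := isLocalization_app h hU
  refine IsLocalization.injective Γ(XK, j ⁻¹ᵁ U)
    (M := Algebra.algebraMapSubmonoid Γ(X, U) (nonZeroDivisors A)) ?_
  rintro _ ⟨c, hc, rfl⟩
  rw [mem_nonZeroDivisors_iff_right]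
  intro r hr
  exact regular_baseMap hU (nonZeroDivisors.ne_zero hc) ((mul_comm _ _).trans hr)

include h in
theorem exists_numerator {U : X.Opens} (hU : IsAffineOpen U) (r : Γ(XK, j ⁻¹ᵁ U)) :
    ∃ (b : Γ(X, U)) (c : A), c ≠ 0 ∧ r * j.app U (baseMap f U c) = j.app U b := by
  letI : Algebra A Γ(X, U) := (baseMap f U).toAlgebra
  letI : Algebra Γ(X, U) Γ(XK, j ⁻¹ᵁ U) := (j.app U).hom.toAlgebra
  haveI := isLocalization_app h hU
  obtain ⟨⟨b, ⟨_, c, hc, rfl⟩⟩, hb⟩ :=
    IsLocalization.surj (Algebra.algebraMapSubmonoid Γ(X, U) (nonZeroDivisors A)) r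
  exact ⟨b, c, nonZeroDivisors.ne_zero hc, hb⟩

theorem res_baseMap {U V : X.Opens} (hle : V ≤ U) (c : A) :
    X.presheaf.map (homOfLE hle).op (baseMap f U c) = baseMap f V c := by
  show (X.presheaf.map _) ((X.presheaf.map _) (Coh.toGlobal f c)) = (X.presheaf.map _) _
  rw [← CommRingCat.comp_apply, ← Functor.map_comp]
  rfl

variable (L : X.Modules)

include h in
/-- A section is determined by its pullback to the generic fibre. -/
theorem unitSec_injective [Flat f] (hL : PicF.IsInvertible L) {V : X.Opens} {m m' : Γ(L, V)}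
    (e : TensorMod.Pullback.unitSec j L m = TensorMod.Pullback.unitSec j L m') : m = m' := by
  have key : ∀ x : V, ∃ (W : X.Opens) (hle : W ≤ V), x.1 ∈ W ∧ rs L hle m = rs L hle m' := by
    intro x
    obtain ⟨U, g, hx, hg⟩ := TensorMod.Gen.isInvertible_iff.1 hL x.1
    obtain ⟨W, hW, hxW, hWle⟩ :=
      exists_isAffineOpen_mem_and_subset (show x.1 ∈ U ⊓ V from ⟨hx, x.2⟩)
    have hle : W ≤ V := fun y hy => (hWle hy).2
    have hg' := hg.res (show W ≤ U from fun y hy => (hWle hy).1)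
    refine ⟨W, hle, hxW, ?_⟩
    obtain ⟨a, ha⟩ := Ample.GenLocus.exists_coord hg' (rs L hle m)
    obtain ⟨a', ha'⟩ := Ample.GenLocus.exists_coord hg' (rs L hle m')
    have h1 : TensorMod.Pullback.unitSec j L (rs L hle m) =
        TensorMod.Pullback.unitSec j L (rs L hle m') := by
      rw [← Ample.GenLocus.unitSec_rs j hle, ← Ample.GenLocus.unitSec_rs j hle, e]
    rw [ha, ha', Ample.GenLocus.unitSec_smul, Ample.GenLocus.unitSec_smul] at h1
    have h2 := ((Ample.GenLocus.isGen_unitSec j hg') _ le_rfl).1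
      (by simpa only [TensorMod.Dual.rs_self] using h1)
    rw [ha, ha', app_injective h hW h2]
  choose W hle hxW hW using key
  exact TopCat.Sheaf.eq_of_locally_eq' ⟨L.presheaf, L.isSheaf⟩ W V (fun x => homOfLE (hle x))
    (fun x hx => Opens.mem_iSup.mpr ⟨⟨x, hx⟩, hxW ⟨x, hx⟩⟩) m m' hW

include h in
/-- A global section generating over the generic fibre, with local equations dividing constants. -/
theorem exists_section [Flat f] [CompactSpace X] (hL : PicF.IsInvertible L)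
    (htriv : Nonempty ((Scheme.Modules.pullback j).obj L ≅ Coh.structureModule XK)) :
    ∃ s : Γ(L, ⊤), ∀ x : X, ∃ (U : X.Opens) (e : Γ(L, U)) (b q : Γ(X, U)) (c : A),
      x ∈ U ∧ IsGen L U e ∧ rs L le_top s = b • e ∧ c ≠ 0 ∧ b * q = baseMap f U c := by
  classical
  obtain ⟨i⟩ := htriv
  have hloc : ∀ x : X, ∃ (U : X.Opens) (e : Γ(L, U)), IsAffineOpen U ∧ x ∈ U ∧ IsGen L U e := by
    intro x
    obtain ⟨U, g, hx, hg⟩ := TensorMod.Gen.isInvertible_iff.1 hL x
    obtain ⟨W, hW, hxW, hWle⟩ := exists_isAffineOpen_mem_and_subset (show x ∈ U from hx)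
    exact ⟨W, _, hW, hxW, hg.res hWle⟩
  choose U e hU hxU he using hloc
  obtain ⟨F, hF⟩ := (isCompact_univ : IsCompact (Set.univ : Set X)).elim_finite_subcover
    (fun x : X => (U x : Set X)) (fun x => (U x).isOpen)
    (fun x _ => Set.mem_iUnion.mpr ⟨x, hxU x⟩)
  have ht : IsGen ((Scheme.Modules.pullback j).obj L) ⊤ (i.inv.app ⊤ (one XK ⊤)) :=
    Ample.GenLocus.isGen_of_isIso_over (Ample.GenLocus.isIso_over_of_iso i.symm ⊤)
      (Ample.GenLocus.isGen_one ⊤)
  set t := i.inv.app ⊤ (one XK ⊤) with htdef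
  have hdata : ∀ x, ∃ (b : Γ(X, U x)) (q : Γ(X, U x)) (c d : A), c ≠ 0 ∧ d ≠ 0 ∧
      b * q = baseMap f (U x) (c * d) ∧
      TensorMod.Pullback.unitSec j L (b • e x) =
        j.app (U x) (baseMap f (U x) c) • rs ((Scheme.Modules.pullback j).obj L) le_top t := by
    intro x
    have hge := Ample.GenLocus.isGen_unitSec j (he x)
    obtain ⟨r, hr⟩ := Ample.GenLocus.exists_coord hge
      (rs ((Scheme.Modules.pullback j).obj L) le_top t)
    have hgen : IsGen ((Scheme.Modules.pullback j).obj L) (j ⁻¹ᵁ U x)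
        (r • TensorMod.Pullback.unitSec j L (e x)) := hr ▸ ht.res le_top
    obtain ⟨ru, rfl⟩ := Ample.GenLocus.isUnit_of_isGen_smul hge hgen
    obtain ⟨b, c, hc, hb⟩ := exists_numerator h (hU x) (ru : Γ(XK, j ⁻¹ᵁ U x))
    obtain ⟨q, d, hd, hq⟩ := exists_numerator h (hU x) ((ru⁻¹ : _ˣ) : Γ(XK, j ⁻¹ᵁ U x))
    refine ⟨b, q, c, d, hc, hd, app_injective h (hU x) ?_, ?_⟩
    · rw [map_mul, map_mul, map_mul, ← hb, ← hq]
      rw [mul_mul_mul_comm, Units.mul_inv, _root_.one_mul]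
    · rw [Ample.GenLocus.unitSec_smul, hr, ← hb, smul_smul]
      exact congrArg (· • _) (mul_comm _ _)
  choose b q c d hc hd hbq hsec using hdata
  let c0 : A := ∏ x ∈ F, c x
  have hc0 : c0 ≠ 0 := Finset.prod_ne_zero_iff.mpr fun x _ => hc x
  let sf : ∀ x : F, Γ(L, U x.1) := fun x =>
    (baseMap f (U x.1) (∏ y ∈ F.erase x.1, c y) * b x.1) • e x.1
  have hcx : ∀ x : F, (∏ y ∈ F.erase x.1, c y) * c x.1 = c0 := fun x =>
    Finset.prod_erase_mul F c x.2
  have himg : ∀ x : F, TensorMod.Pullback.unitSec j L (sf x) =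
      j.app (U x.1) (baseMap f (U x.1) c0) • rs ((Scheme.Modules.pullback j).obj L) le_top t := by
    intro x
    rw [← hcx x, map_mul, map_mul]
    simp only [sf, mul_smul]
    rw [Ample.GenLocus.unitSec_smul, hsec]
  have hcompat : TopCat.Presheaf.IsCompatible L.presheaf (fun x : F => U x.1) sf := by
    intro x y
    refine unitSec_injective h L hL ?_
    have key : ∀ (z : F) (hle : U x.1 ⊓ U y.1 ≤ U z.1),
        TensorMod.Pullback.unitSec j L (rs L hle (sf z)) =
          j.app (U x.1 ⊓ U y.1) (baseMap f (U x.1 ⊓ U y.1) c0) •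
            rs ((Scheme.Modules.pullback j).obj L) le_top t := by
      intro z hle
      rw [← Ample.GenLocus.unitSec_rs j hle, himg, TensorMod.Dual.rs_smul,
        TensorMod.Dual.rs_rs, ← res_baseMap hle c0]
      refine congrArg (· • _) ?_
      exact (ConcreteCategory.congr_hom (j.naturality (homOfLE hle).op) _).symm
    exact (key x inf_le_left).trans (key y inf_le_right).symm
  obtain ⟨s, hs, -⟩ := TopCat.Sheaf.existsUnique_gluing' ⟨L.presheaf, L.isSheaf⟩
    (fun x : F => U x.1) ⊤ (fun x => homOfLE le_top)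
    (fun y _ => by
      obtain ⟨x, hx, hyx⟩ := Set.mem_iUnion₂.mp (hF (Set.mem_univ y))
      exact Opens.mem_iSup.mpr ⟨⟨x, hx⟩, hyx⟩) sf hcompat
  refine ⟨s, fun y => ?_⟩
  obtain ⟨x, hx, hyx⟩ := Set.mem_iUnion₂.mp (hF (Set.mem_univ y))
  refine ⟨U x, e x, _, q x, c0 * d x, hyx, he x, hs ⟨x, hx⟩, mul_ne_zero hc0 (hd x), ?_⟩
  rw [mul_assoc, hbq, ← map_mul, ← mul_assoc, hcx ⟨x, hx⟩]

end Groth.Agent.H73.ValTriv.Generic
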