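import Groth.Agent.S1216
import Mathlib.AlgebraicGeometry.Morphisms.Flat
import Mathlib.AlgebraicGeometry.Morphisms.FiniteType
import Mathlib.AlgebraicGeometry.Fiber
import Groth.Agent.H52.FBase.BCReducedStalk

/-!
# Divisors of constants in a local ring over a valuation ring with integral closed fibre
-/

set_option autoImplicit false
set_option linter.style.haveILetI false

universe u

open CategoryTheory CategoryTheory.Limits AlgebraicGeometry IsLocalRing

namespace Groth.Agent.H73.ValTriv.Local

section Algebra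

variable {A B : Type u} [CommRing A] [IsDomain A] [ValuationRing A] [CommRing B] [IsLocalRing B]
  [Algebra A B] [IsLocalHom (algebraMap A B)] [Module.Flat A B]

theorem regular {a : A} (ha : a ≠ 0) {z : B} (h : algebraMap A B a * z = 0) : z = 0 :=
  (IsSMulRegular.of_right_eq_zero_of_smul (M := B) (r := a) fun y hy =>
    (Module.Flat.torsion_eq_bot (R := A) (M := B)).le
      ⟨⟨a, mem_nonZeroDivisors_of_ne_zero ha⟩, hy⟩).right_eq_zero_of_smul
    (by rw [Algebra.smul_def]; exact h)

theorem not_isUnit_map {e : A} (he : ¬IsUnit e) : ¬IsUnit (algebraMap A B e) :=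
  fun h => he ((isUnit_map_iff (algebraMap A B) e).mp h)

theorem exists_primitive [Algebra.EssFiniteType A B] {b : B} (hb : b ≠ 0) :
    ∃ (a : A) (g : B), a ≠ 0 ∧ b = algebraMap A B a * g ∧
      g ∉ (maximalIdeal A).map (algebraMap A B) := by
  obtain ⟨I, ⟨a, rfl⟩, hmem, hmin⟩ := Groth.Agent.S1216.result (A := A) (B := B) B b
  rw [Ideal.smul_top_eq_map, Ideal.submodule_span_eq, Ideal.map_span, Set.image_singleton,
    Submodule.restrictScalars_mem, Ideal.mem_span_singleton'] at hmem
  obtain ⟨g, rfl⟩ := hmem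
  have ha : a ≠ 0 := fun h => hb (by rw [h, map_zero, mul_zero])
  refine ⟨a, g, ha, mul_comm _ _, fun hg => ?_⟩
  have h1 : g * algebraMap A B a ∈
      (Ideal.span {a} * maximalIdeal A) • (⊤ : Submodule A B) := by
    rw [Ideal.smul_top_eq_map, Submodule.restrictScalars_mem, Ideal.map_mul, Ideal.map_span,
      Set.image_singleton, mul_comm g]
    exact Ideal.mul_mem_mul (Ideal.subset_span rfl) hg
  have h2 := hmin _ h1 (Submodule.mem_span_singleton_self a)
  obtain ⟨e, he, hae⟩ := Ideal.mem_span_singleton_mul.mp h2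
  exact (IsLocalRing.mem_maximalIdeal _).mp he (IsUnit.of_mul_eq_one 1 (by
    rw [mul_one]
    exact mul_left_cancel₀ ha (hae.trans (mul_one a).symm)))

/-- A divisor of a non-zero constant is a constant up to a unit. -/
theorem exists_eq_mul_unit [Algebra.EssFiniteType A B]
    (hP : ((maximalIdeal A).map (algebraMap A B)).IsPrime) {b q : B} {c : A} (hc : c ≠ 0)
    (hbq : b * q = algebraMap A B c) :
    ∃ (a : A) (u : B), a ≠ 0 ∧ IsUnit u ∧ b = algebraMap A B a * u := by
  have hc' : algebraMap A B c ≠ 0 := fun h =>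
    one_ne_zero (regular (B := B) hc (by rw [h, zero_mul]))
  obtain ⟨a, g, ha, rfl, hg⟩ := exists_primitive (A := A) (b := b)
    (fun h => hc' (by rw [← hbq, h, zero_mul]))
  obtain ⟨a', h, ha', rfl, hh⟩ := exists_primitive (A := A) (b := q)
    (fun h => hc' (by rw [← hbq, h, mul_zero]))
  refine ⟨a, g, ha, ?_, rfl⟩
  have hgh : g * h ∉ (maximalIdeal A).map (algebraMap A B) := fun hm =>
    (hP.mem_or_mem hm).elim hg hh
  rcases ValuationRing.cond c (a * a') with ⟨v, hv | hv⟩
  · -- `c * v = a * a'`
    have h0 : algebraMap A B c * (algebraMap A B v * (g * h) - 1) = 0 := by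
      rw [mul_sub, mul_one, ← mul_assoc, ← map_mul, hv, map_mul]
      linear_combination hbq
    exact IsUnit.of_mul_eq_one (h * algebraMap A B v) (by
      linear_combination regular (B := B) hc h0)
  · have h0 : algebraMap A B (a * a') * (algebraMap A B v - g * h) = 0 := by
      rw [mul_sub, ← map_mul, hv, map_mul]
      linear_combination -hbq
    have h1 : g * h = algebraMap A B v :=
      (sub_eq_zero.mp (regular (B := B) (mul_ne_zero ha ha') h0)).symm
    have hvu : IsUnit v := by
      by_contra hn
      exact hgh (h1 ▸ Ideal.mem_map_of_mem _ ((IsLocalRing.mem_maximalIdeal _).mpr hn))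
    exact isUnit_of_mul_isUnit_left (h1 ▸ hvu.map (algebraMap A B) : IsUnit (g * h))

/-- Constants equal up to a unit are associated. -/
theorem dvd_of_mul_unit_eq {a a' : A} (ha' : a' ≠ 0) {u u' : B} (hu : IsUnit u) (hu' : IsUnit u')
    (h : algebraMap A B a * u = algebraMap A B a' * u') : ∃ v : A, IsUnit v ∧ a = a' * v := by
  rcases ValuationRing.cond a' a with ⟨v, hv | hv⟩
  · refine ⟨v, ?_, hv.symm⟩
    have h0 : algebraMap A B a' * (algebraMap A B v * u - u') = 0 := by
      rw [mul_sub, ← mul_assoc, ← map_mul, hv, h, sub_self]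
    have h1 : algebraMap A B v * u = u' := sub_eq_zero.mp (regular (B := B) ha' h0)
    exact (isUnit_map_iff (algebraMap A B) v).mp (isUnit_of_mul_isUnit_left (h1 ▸ hu'))
  · have ha : a ≠ 0 := fun h0 => ha' (by rw [← hv, h0, zero_mul])
    have h0 : algebraMap A B a * (u - algebraMap A B v * u') = 0 := by
      rw [mul_sub, ← mul_assoc, ← map_mul, hv, h, sub_self]
    have h1 : u = algebraMap A B v * u' := sub_eq_zero.mp (regular (B := B) ha h0)
    obtain ⟨w, hw⟩ := (isUnit_map_iff (algebraMap A B) v).mp
      (isUnit_of_mul_isUnit_left (h1 ▸ hu))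
    exact ⟨(w⁻¹ : Aˣ), Units.isUnit _, by rw [← hv, ← hw, mul_assoc, Units.mul_inv, mul_one]⟩

omit [Algebra A B] [IsLocalHom (algebraMap A B)] [Module.Flat A B] in
/-- `exists_eq_mul_unit` for a ring homomorphism. -/
theorem exists_eq_mul_unit_hom (φ : A →+* B) (hflat : φ.Flat) (hloc : IsLocalHom φ)
    (hess : φ.EssFiniteType) (hP : ((maximalIdeal A).map φ).IsPrime) {b q : B} {c : A}
    (hc : c ≠ 0) (hbq : b * q = φ c) :
    ∃ (a : A) (u : B), a ≠ 0 ∧ IsUnit u ∧ b = φ a * u := by
  letI : Algebra A B := φ.toAlgebra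
  haveI : Module.Flat A B := hflat
  haveI : IsLocalHom (algebraMap A B) := hloc
  haveI : Algebra.EssFiniteType A B := hess
  exact exists_eq_mul_unit (A := A) (B := B) hP hc hbq

omit [Algebra A B] [IsLocalHom (algebraMap A B)] [Module.Flat A B] in
/-- `dvd_of_mul_unit_eq` for a ring homomorphism. -/
theorem dvd_of_mul_unit_eq_hom (φ : A →+* B) (hflat : φ.Flat) (hloc : IsLocalHom φ)
    {a a' : A} (ha' : a' ≠ 0) {u u' : B} (hu : IsUnit u) (hu' : IsUnit u')
    (h : φ a * u = φ a' * u') : ∃ v : A, IsUnit v ∧ a = a' * v := by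
  letI : Algebra A B := φ.toAlgebra
  haveI : Module.Flat A B := hflat
  haveI : IsLocalHom (algebraMap A B) := hloc
  exact dvd_of_mul_unit_eq (A := A) (B := B) ha' hu hu' h

end Algebra

section Geometry

variable {A : Type u} [CommRing A] {X : Scheme.{u}} (f : X ⟶ Spec (CommRingCat.of A))

/-- The base ring in a local ring. -/
noncomputable def α (x : X) : A →+* X.presheaf.stalk x :=
  (f.stalkMap x).hom.comp (StructureSheaf.toStalk A (f x)).hom

theorem flat_α [Flat f] (x : X) : (α f x).Flat := by
  refine RingHom.Flat.comp ?_ (Flat.stalkMap f x)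
  let p : PrimeSpectrum A := f x
  exact RingHom.flat_algebraMap_iff.mpr (IsLocalization.flat ((Spec.structureSheaf A).presheaf.stalk p) p.asIdeal.primeCompl)

theorem essFiniteType_α [LocallyOfFiniteType f] (x : X) : (α f x).EssFiniteType := by
  refine RingHom.EssFiniteType.comp ?_ (LocallyOfFiniteType.stalkMap f x)
  let p : PrimeSpectrum A := f x
  exact RingHom.essFiniteType_algebraMap.mpr
    (Algebra.EssFiniteType.of_isLocalization ((Spec.structureSheaf A).presheaf.stalk p) p.asIdeal.primeCompl)

variable [IsLocalRing A]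

theorem isLocalHom_α {x : X} (hx : f x = closedPoint A) : IsLocalHom (α f x) := by
  refine ⟨fun a ha => ?_⟩
  have h1 : IsUnit ((StructureSheaf.toStalk A (f x)).hom a) :=
    isUnit_of_map_unit (f.stalkMap x).hom _ ha
  let p : PrimeSpectrum A := f x
  have h2 : a ∉ p.asIdeal :=
    (IsLocalization.AtPrime.isUnit_to_map_iff ((Spec.structureSheaf A).presheaf.stalk p) p.asIdeal a).1 h1
  rw [show p = closedPoint A from hx] at h2
  exact IsLocalRing.notMem_maximalIdeal.mp h2

theorem isPrime_map_max (hint : IsIntegral (f.fiber (closedPoint A))) {x : X}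
    (hx : f x = closedPoint A) : ((maximalIdeal A).map (α f x)).IsPrime := by
  let s₀ : Spec (CommRingCat.of A) := closedPoint A
  obtain ⟨w, rfl⟩ : x ∈ Set.range (f.fiberι s₀) := by rw [f.range_fiberι]; exact hx
  have H : IsPullback (f.fiberι s₀) (f.fiberToSpecResidueField s₀) f
      ((Spec (CommRingCat.of A)).fromSpecResidueField s₀) := IsPullback.of_hasPullback _ _
  have hz : IsField ((Spec ((Spec (CommRingCat.of A)).residueField s₀)).presheaf.stalk
      (f.fiberToSpecResidueField s₀ w)) := by
    haveI : IsIntegral (Spec ((Spec (CommRingCat.of A)).residueField s₀)) := inferInstance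
    rw [Subsingleton.elim (f.fiberToSpecResidueField s₀ w) (genericPoint _)]
    exact Field.toIsField (Spec ((Spec (CommRingCat.of A)).residueField s₀)).functionField
  have hker := H52.FBase.BCReducedStalk.ker_stalkMap H w hz
  have hp : (RingHom.ker ((f.fiberι s₀).stalkMap w).hom).IsPrime := RingHom.ker_isPrime _
  rw [hker] at hp
  let p : PrimeSpectrum A := f (f.fiberι s₀ w)
  haveI : IsLocalRing ((Spec.structureSheaf A).presheaf.stalk p) :=
    inferInstanceAs (IsLocalRing ((Spec (CommRingCat.of A)).presheaf.stalk (f (f.fiberι s₀ w))))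
  have hm : (maximalIdeal A).map (StructureSheaf.toStalk A (f (f.fiberι s₀ w))).hom =
      maximalIdeal ((Spec (CommRingCat.of A)).presheaf.stalk (f (f.fiberι s₀ w))) := by
    have h1 := IsLocalization.AtPrime.map_eq_maximalIdeal p.asIdeal
      ((Spec.structureSheaf A).presheaf.stalk p)
    rw [show p.asIdeal = maximalIdeal A from congrArg PrimeSpectrum.asIdeal hx] at h1
    exact h1
  rw [α, ← Ideal.map_map]
  have h3 := congrArg (Ideal.map (f.stalkMap (f.fiberι s₀ w)).hom) hm
  exact h3.symm ▸ hp

end Geometry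

end Groth.Agent.H73.ValTriv.Local
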