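import Groth.Agent.H73.ValTriv.Local
import Groth.Agent.H73.ValTriv.Generic
import Groth.Agent.Lib.ClSub.Basis
import Mathlib.AlgebraicGeometry.Morphisms.Proper

/-!
# Invertible modules over a valuation ring trivial on the generic fibre
-/

set_option autoImplicit false
set_option linter.style.haveILetI false

universe u

open CategoryTheory CategoryTheory.Limits AlgebraicGeometry TopologicalSpace Opposite IsLocalRing
open Groth.Agent.Lib
open ZarCoh.FlatBC.Main (baseMap)
open Groth.Agent.Lib.TensorMod.Gen (IsGen one)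
open Groth.Agent.Lib.TensorMod.Dual (rs)

namespace Groth.Agent.H73.ValTriv.Main

variable {A : Type u} [CommRing A] [IsDomain A] [ValuationRing A] {X : Scheme.{u}}
  (f : X ⟶ Spec (CommRingCat.of A)) {L : X.Modules}

omit [IsDomain A] [ValuationRing A] in
theorem germ_baseMap {U : X.Opens} {x : X} (hx : x ∈ U) (a : A) :
    X.presheaf.germ U x hx (baseMap f U a) = Local.α f x a := by
  show X.presheaf.germ U x hx ((X.presheaf.map _) (Coh.toGlobal f a)) = _
  rw [TopCat.Presheaf.germ_res_apply]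
  exact (ConcreteCategory.congr_hom (f.germ_stalkMap ⊤ x trivial)
    ((Scheme.ΓSpecIso (CommRingCat.of A)).inv a)).symm

theorem regular_germ [Flat f] {a : A} (ha : a ≠ 0) {x : X} {z : X.presheaf.stalk x}
    (hz : Local.α f x a * z = 0) : z = 0 := by
  letI : Algebra A (X.presheaf.stalk x) := (Local.α f x).toAlgebra
  haveI : Module.Flat A (X.presheaf.stalk x) := Local.flat_α f x
  exact (Module.Flat.torsion_eq_bot (R := A) (M := X.presheaf.stalk x)).le
    ⟨⟨a, mem_nonZeroDivisors_of_ne_zero ha⟩, hz⟩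

variable (s : Γ(L, ⊤))

/-- `s` is `a` times a local generator at `x`. -/
def Sim (a : A) (x : X) : Prop :=
  ∃ (U : X.Opens) (hx : x ∈ U) (e : Γ(L, U)) (b : Γ(X, U)) (w : X.presheaf.stalk x),
    IsGen L U e ∧ rs L le_top s = b • e ∧ IsUnit w ∧
      X.presheaf.germ U x hx b = Local.α f x a * w

omit [IsDomain A] [ValuationRing A] in
theorem sim_generalize {a : A} {x y : X} (hyx : y ⤳ x) (h : Sim f s a x) : Sim f s a y := by
  obtain ⟨U, hx, e, b, w, he, hs, hw, hb⟩ := h
  refine ⟨U, hyx.mem_open U.isOpen hx, e, b, X.presheaf.stalkSpecializes hyx w, he, hs,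
    hw.map (X.presheaf.stalkSpecializes hyx).hom, ?_⟩
  have h1 := congrArg (X.presheaf.stalkSpecializes hyx).hom hb
  rw [map_mul, ← germ_baseMap f hx a] at h1
  rw [TopCat.Presheaf.germ_stalkSpecializes_apply, TopCat.Presheaf.germ_stalkSpecializes_apply,
    germ_baseMap] at h1
  exact h1

theorem sim_unique [Flat f] {a a' : A} (ha' : a' ≠ 0) {x : X} (hx : f x = closedPoint A)
    (h : Sim f s a x) (h' : Sim f s a' x) : ∃ v : A, IsUnit v ∧ a = a' * v := by
  obtain ⟨U, hxU, e, b, w, he, hs, hw, hb⟩ := h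
  obtain ⟨U', hxU', e', b', w', he', hs', hw', hb'⟩ := h'
  let V := U ⊓ U'
  have hV : x ∈ V := ⟨hxU, hxU'⟩
  have hV1 : V ≤ U := inf_le_left
  have hV2 : V ≤ U' := inf_le_right
  obtain ⟨g, hg⟩ := Ample.GenLocus.exists_coord (he.res hV1) (rs L hV2 e')
  have hgu : IsUnit g := Ample.GenLocus.isUnit_of_isGen_smul (he.res hV1) (hg ▸ he'.res hV2)
  have h1 : X.presheaf.map (homOfLE hV1).op b • rs L hV1 e =
      (X.presheaf.map (homOfLE hV2).op b' * g) • rs L hV1 e := by
    rw [mul_smul, ← hg, ← TensorMod.Dual.rs_smul, ← TensorMod.Dual.rs_smul, ← hs, ← hs',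
      TensorMod.Dual.rs_rs, TensorMod.Dual.rs_rs]
  have h2 := ((he.res hV1) V le_rfl).1 (by simpa only [TensorMod.Dual.rs_self] using h1)
  have h3 := congrArg (X.presheaf.germ V x hV) h2
  rw [map_mul, TopCat.Presheaf.germ_res_apply, TopCat.Presheaf.germ_res_apply, hb, hb',
    mul_assoc] at h3
  exact Local.dvd_of_mul_unit_eq_hom (Local.α f x) (Local.flat_α f x) (Local.isLocalHom_α f hx)
    ha' hw (hw'.mul (hgu.map (X.presheaf.germ V x hV).hom)) h3

/-- `s` is `a` times a generator near `x`. -/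
def Div (a : A) (x : X) : Prop :=
  ∃ (V : X.Opens) (g : Γ(L, V)), x ∈ V ∧ IsGen L V g ∧ rs L le_top s = baseMap f V a • g

omit [ValuationRing A] in
theorem div_of_sim {a : A} {x : X} (h : Sim f s a x) : Div f s a x := by
  obtain ⟨U, hx, e, b, w, he, hs, hw, hb⟩ := h
  obtain ⟨W, hxW, w', rfl⟩ := TopCat.Presheaf.exists_germ_eq X.presheaf w
  rw [← germ_baseMap f hxW, ← map_mul] at hb
  obtain ⟨O, hxO, i₁, i₂, hO⟩ := X.presheaf.germ_eq (U := U) (V := W) x hx hxW _ _ hb
  let V := O ⊓ X.basicOpen w'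
  have hxV : x ∈ V := ⟨hxO, (Scheme.mem_basicOpen X w' x hxW).2 hw⟩
  have hV1 : V ≤ U := inf_le_left.trans i₁.le
  have hV2 : V ≤ W := inf_le_left.trans i₂.le
  have hu : IsUnit (X.presheaf.map (homOfLE hV2).op w') := by
    have h1 := (RingedSpace.isUnit_res_basicOpen _ w').map
      (X.presheaf.map (homOfLE (inf_le_right : V ≤ X.basicOpen w')).op).hom
    convert h1 using 1
    exact ConcreteCategory.congr_hom (X.presheaf.map_comp (homOfLE (X.basicOpen_le w')).op
      (homOfLE (inf_le_right : V ≤ X.basicOpen w')).op) w'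
  refine ⟨V, X.presheaf.map (homOfLE hV2).op w' • rs L hV1 e, hxV,
    Ample.GenLocus.IsGen_smul_isUnit (he.res hV1) hu, ?_⟩
  rw [← TensorMod.Dual.rs_rs L le_top hV1, hs, TensorMod.Dual.rs_smul, smul_smul]
  refine congrArg (· • _) ?_
  have h4 := congrArg (X.presheaf.map (homOfLE (inf_le_left : V ≤ O)).op).hom hO
  rw [← CommRingCat.comp_apply, ← CommRingCat.comp_apply, ← Functor.map_comp, ← Functor.map_comp,
    map_mul] at h4
  rw [← Generic.res_baseMap hV2 a]
  exact h4

theorem nonempty_iso_of_div [Flat f] {a : A} (ha : a ≠ 0) (h : ∀ x, Div f s a x) :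
    Nonempty (L ≅ Coh.structureModule X) := by
  choose V g hxV hg hs using h
  have hcompat : TopCat.Presheaf.IsCompatible L.presheaf V g := by
    intro x y
    change rs L (inf_le_left : V x ⊓ V y ≤ V x) (g x) = rs L (inf_le_right : V x ⊓ V y ≤ V y) (g y)
    have hg1 := (hg x).res (inf_le_left : V x ⊓ V y ≤ V x)
    obtain ⟨w, hw⟩ := Ample.GenLocus.exists_coord hg1 (rs L (inf_le_right : V x ⊓ V y ≤ V y) (g y))
    have h1 : baseMap f (V x ⊓ V y) a • rs L (inf_le_left : V x ⊓ V y ≤ V x) (g x) =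
        (baseMap f (V x ⊓ V y) a * w) • rs L (inf_le_left : V x ⊓ V y ≤ V x) (g x) := by
      rw [mul_smul, ← hw]
      conv_lhs => rw [← Generic.res_baseMap (f := f) (inf_le_left : V x ⊓ V y ≤ V x) a,
        ← TensorMod.Dual.rs_smul, ← hs, TensorMod.Dual.rs_rs]
      rw [← Generic.res_baseMap (f := f) (inf_le_right : V x ⊓ V y ≤ V y) a,
        ← TensorMod.Dual.rs_smul, ← hs, TensorMod.Dual.rs_rs]
    have h2 := (hg1 _ le_rfl).1 (by simpa only [TensorMod.Dual.rs_self] using h1)
    have hw1 : w = 1 := TopCat.Presheaf.section_ext X.sheaf _ w 1 fun z hz => by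
      have h3 := congrArg (X.presheaf.germ _ z hz) h2
      rw [map_mul, germ_baseMap] at h3
      change X.presheaf.germ _ z hz w = X.presheaf.germ _ z hz 1
      rw [map_one]
      refine (sub_eq_zero.mp (regular_germ f ha ?_)).symm
      rw [mul_sub, mul_one, ← h3, sub_self]
    rw [hw, hw1, one_smul]
  obtain ⟨τ, hτ, -⟩ := TopCat.Sheaf.existsUnique_gluing' ⟨L.presheaf, L.isSheaf⟩ V ⊤
    (fun x => homOfLE le_top) (fun x _ => Opens.mem_iSup.mpr ⟨x, hxV x⟩) g hcompat
  obtain ⟨φ, hφ⟩ := Ample.GenLocus.exists_hom_of_sec τ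
  have hb : ∀ (x : X) (O : X.Opens), x ∈ O →
      ∃ W ≤ O, x ∈ W ∧ Function.Bijective (φ.app W) := by
    intro x O hx
    refine ⟨O ⊓ V x, inf_le_left, ⟨hx, hxV x⟩, ?_⟩
    have hsv : φ.app (O ⊓ V x) (one X (O ⊓ V x)) = rs L inf_le_right (g x) := by
      rw [← TensorMod.Gen.rs_app_one φ (le_top : O ⊓ V x ≤ ⊤)]
      change rs L le_top (Ample.GenLocus.sv φ ⊤) = _
      rw [hφ, ← hτ x]
      exact (TensorMod.Dual.rs_rs L le_top inf_le_right τ).symm
    have h1 : (fun a : Γ(X, O ⊓ V x) => a • rs L inf_le_right (g x)) = φ.app (O ⊓ V x) :=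
      funext fun a => by
        rw [← hsv]
        exact (TensorMod.Gen.app_eq_smul φ a).symm
    exact h1 ▸ hg x (O ⊓ V x) inf_le_right
  haveI : Epi φ := (Modules.Stalk.epi_iff_stalk_surjective _).mpr fun x =>
    ClSub.Basis.stalk_surjective_of_basis _ x fun O hx => by
      obtain ⟨W, hle, hxW, hW⟩ := hb x O hx
      exact ⟨W, hle, hxW, hW.2⟩
  haveI : Mono φ := (Modules.Stalk.mono_iff_stalk_injective _).mpr fun x =>
    ClSub.Basis.stalk_injective_of_basis _ x fun O hx => by
      obtain ⟨W, hle, hxW, hW⟩ := hb x O hx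
      exact ⟨W, hle, hxW, hW.1⟩
  haveI := isIso_of_mono_of_epi φ
  exact ⟨(asIso φ).symm⟩

variable [IsProper f] [Flat f]

omit s in
theorem main (hL : PicF.IsInvertible L)
    (htriv : Nonempty ((Scheme.Modules.pullback
      (f.fiberι (genericPoint ↑(Spec (CommRingCat.of A))))).obj L ≅
      Coh.structureModule (f.fiber (genericPoint ↑(Spec (CommRingCat.of A))))))
    (hint : IsIntegral (f.fiber (closedPoint A))) :
    Nonempty (L ≅ Coh.structureModule X) := by
  classical
  haveI : CompactSpace X := QuasiCompact.compactSpace_of_compactSpace f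
  let K := FractionRing A
  let g : Spec (CommRingCat.of K) ⟶ Spec (CommRingCat.of A) :=
    Spec.map (CommRingCat.ofHom (algebraMap A K))
  obtain ⟨s, hs⟩ : ∃ s : Γ(L, ⊤), ∀ x : X, ∃ (U : X.Opens) (e : Γ(L, U)) (b q : Γ(X, U)) (c : A),
      x ∈ U ∧ IsGen L U e ∧ rs L le_top s = b • e ∧ c ≠ 0 ∧ b * q = baseMap f U c := by
    refine Generic.exists_section (IsPullback.of_hasPullback f g) L hL ?_
    have key : ∀ η : Spec (CommRingCat.of A), g (closedPoint K) = η →
        Nonempty ((Scheme.Modules.pullback (f.fiberι η)).obj L ≅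
          Coh.structureModule (f.fiber η)) →
        Nonempty ((Scheme.Modules.pullback (pullback.fst f g)).obj L ≅
          Coh.structureModule (pullback f g)) := by
      rintro η rfl ⟨i⟩
      have hfac := Scheme.descResidueField_stalkClosedPointTo_fromSpecResidueField K
        (Spec (CommRingCat.of A)) g
      let q : pullback f g ⟶ f.fiber (g (closedPoint K)) :=
        pullback.lift (pullback.fst f g) (pullback.snd f g ≫
          Spec.map (Scheme.descResidueField (Scheme.stalkClosedPointTo g)))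
          (by rw [pullback.condition, Category.assoc, hfac])
      have hq : q ≫ f.fiberι _ = pullback.fst f g := pullback.lift_fst _ _ _
      exact ⟨(Scheme.Modules.pullbackCongr hq.symm).app L ≪≫
        ((Scheme.Modules.pullbackComp q _).app L).symm ≪≫
        (Scheme.Modules.pullback q).mapIso i ≪≫ PicLoc.pullbackStructureIso q⟩
    refine key _ ?_ htriv
    rw [genericPoint_eq_bot_of_affine]
    apply PrimeSpectrum.ext
    show Ideal.comap (algebraMap A K) (maximalIdeal K) = ⊥
    rw [IsLocalRing.maximalIdeal_eq_bot]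
    exact Ideal.comap_bot_of_injective _ (IsFractionRing.injective A K)
  haveI : LocallyOfFiniteType f := inferInstance
  have hsim : ∀ x : X, f x = closedPoint A → ∃ a : A, a ≠ 0 ∧ Sim f s a x := by
    intro x hx
    obtain ⟨U, e, b, q, c, hxU, he, hse, hc, hbq⟩ := hs x
    have hb := congrArg (X.presheaf.germ U x hxU) hbq
    rw [map_mul, germ_baseMap] at hb
    obtain ⟨a, w, ha, hw, hbw⟩ :=
      Local.exists_eq_mul_unit_hom (Local.α f x) (Local.flat_α f x) (Local.isLocalHom_α f hx)
        (Local.essFiniteType_α f x) (Local.isPrime_map_max f hint hx) hc hb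
    exact ⟨a, ha, U, hxU, e, b, w, he, hse, hw, hbw⟩
  let s₀ : Spec (CommRingCat.of A) := closedPoint A
  let ξ : X := f.fiberι s₀ (genericPoint (f.fiber s₀))
  have hξ : f ξ = closedPoint A := by
    have h1 : ξ ∈ Set.range (f.fiberι s₀) := ⟨_, rfl⟩
    rw [f.range_fiberι] at h1
    exact h1
  obtain ⟨a, ha, hξa⟩ := hsim ξ hξ
  have hclosed : ∀ x : X, f x = closedPoint A → Div f s a x := by
    intro x hx
    obtain ⟨a', ha', hxa⟩ := hsim x hx
    have hspec : ξ ⤳ x := by
      obtain ⟨w, rfl⟩ : x ∈ Set.range (f.fiberι s₀) := by rw [f.range_fiberι]; exact hx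
      exact (genericPoint_specializes w).map (f.fiberι s₀).continuous
    obtain ⟨v, hv, rfl⟩ := sim_unique f s ha hξ (sim_generalize f s hspec hxa) hξa
    obtain ⟨U, hxU, e, b, w, he, hse, hw, hb⟩ := hxa
    exact div_of_sim f s ⟨U, hxU, e, b, Local.α f x v * w, he, hse,
      (hv.map (Local.α f x)).mul hw, by rw [hb, map_mul, mul_assoc]⟩
  refine nonempty_iso_of_div f s ha fun x => ?_
  by_contra hne
  have hopen : IsOpen {x : X | Div f s a x} := isOpen_iff_forall_mem_open.mpr
    fun y ⟨V, g', hy, hg', hs'⟩ => ⟨V, fun z hz => ⟨V, g', hz, hg', hs'⟩, V.isOpen, hy⟩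
  have hcl := f.isClosedMap _ hopen.isClosed_compl
  have hmem : closedPoint A ∈ f '' {x : X | Div f s a x}ᶜ :=
    (IsLocalRing.specializes_closedPoint (f x)).mem_closed hcl ⟨x, hne, rfl⟩
  obtain ⟨y, hy, hy'⟩ := hmem
  exact hy (hclosed y hy')

end Groth.Agent.H73.ValTriv.Main
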